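import Groth.Prelude.Def_Wider
import Groth.Agent.S6291

/-! Linear self-equivalences of finite length modules over a local ring. -/

set_option autoImplicit false
set_option backward.isDefEq.respectTransparency false

universe u

open CategoryTheory IsLocalRing

noncomputable section

namespace Groth.Agent.FinLenEquivLib

variable {A : Type u} [CommRing A] [IsLocalRing A] [IsNoetherianRing A]

theorem isFiniteLength_quot_pow (n : ℕ) : IsFiniteLength A (A ⧸ maximalIdeal A ^ n) := by
  have : Ring.KrullDimLE 0 (A ⧸ maximalIdeal A ^ n) := Ring.KrullDimLE.mk₀ fun P hP => by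
    have hle : maximalIdeal A ≤ P.comap (Ideal.Quotient.mk (maximalIdeal A ^ n)) := by
      intro x hx
      refine (hP.comap _).mem_of_pow_mem n ?_
      rw [Ideal.mem_comap, Ideal.Quotient.eq_zero_iff_mem.2 (Ideal.pow_mem_pow hx n)]
      exact zero_mem _
    have hm : (P.comap (Ideal.Quotient.mk (maximalIdeal A ^ n))).IsMaximal := by
      rw [← (maximalIdeal.isMaximal A).eq_of_le (hP.comap _).ne_top hle]; infer_instance
    rw [← Ideal.map_comap_of_surjective _ Ideal.Quotient.mk_surjective P]
    exact (Ideal.map_eq_top_or_isMaximal_of_surjective _ Ideal.Quotient.mk_surjective hm).resolve_left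
      (by rw [Ideal.map_comap_of_surjective _ Ideal.Quotient.mk_surjective P]; exact hP.ne_top)
  have : IsArtinianRing (A ⧸ maximalIdeal A ^ n) :=
    isArtinianRing_iff_isNoetherianRing_krullDimLE_zero.2 ⟨inferInstance, this⟩
  have : IsArtinian A (A ⧸ maximalIdeal A ^ n) :=
    isArtinian_of_surjective_algebraMap (R := A ⧸ maximalIdeal A ^ n) (M := A ⧸ maximalIdeal A ^ n)
      Ideal.Quotient.mk_surjective
  exact isFiniteLength_iff_isNoetherian_isArtinian.2 ⟨inferInstance, this⟩

/-- The module `A/m^(n+1)`. -/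
def Q (n : ℕ) : Dual.FinLen A :=
  ⟨ModuleCat.of A (A ⧸ maximalIdeal A ^ (n + 1)), isFiniteLength_quot_pow (n + 1)⟩

/-- The class of one. -/
def one (n : ℕ) : (Q (A := A) n).obj :=
  (Ideal.Quotient.mk (maximalIdeal A ^ (n + 1)) (1 : A) : A ⧸ maximalIdeal A ^ (n + 1))

/-- `x` is killed by `m^(n+1)`. -/
def Killed (n : ℕ) {X : Dual.FinLen A} (x : X.obj) : Prop :=
  ∀ r ∈ maximalIdeal A ^ (n + 1), r • x = 0

theorem killed_mono {n m : ℕ} (h : n ≤ m) {X : Dual.FinLen A} {x : X.obj} (hx : Killed n x) : Killed m x :=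
  fun r hr => hx r (Ideal.pow_le_pow_right (by omega) hr)

theorem exists_killed (X : Dual.FinLen A) : ∃ n, ∀ x : X.obj, Killed n x := by
  obtain ⟨n, hn⟩ := Groth.Agent.S6291.result X.obj X.property
  refine ⟨n, fun x r hr => ?_⟩
  have : r • x ∈ maximalIdeal A ^ n • (⊤ : Submodule A X.obj) :=
    Submodule.smul_mem_smul (Ideal.pow_le_pow_right (by omega) hr) Submodule.mem_top
  rw [hn] at this
  exact this

theorem killed_one (n : ℕ) : Killed n (one (A := A) n) := fun r hr => by
  show r • (Ideal.Quotient.mk (maximalIdeal A ^ (n + 1)) (1 : A)) = 0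
  rw [Algebra.smul_def, Ideal.Quotient.algebraMap_eq, ← map_mul, mul_one, Ideal.Quotient.eq_zero_iff_mem]
  exact hr

/-- The map `1 ↦ x`. -/
def mapOf (n : ℕ) {X : Dual.FinLen A} (x : X.obj) (hx : Killed n x) : Q n ⟶ X :=
  ObjectProperty.homMk (ModuleCat.ofHom
    (Submodule.liftQ (maximalIdeal A ^ (n + 1)) (LinearMap.toSpanSingleton A X.obj x)
      (fun r hr => by rw [LinearMap.mem_ker, LinearMap.toSpanSingleton_apply]; exact hx r hr)))

@[simp] theorem mapOf_one (n : ℕ) {X : Dual.FinLen A} (x : X.obj) (hx : Killed n x) :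
    (mapOf n x hx).hom.hom (one n) = x := one_smul A x

theorem hom_ext_one {n : ℕ} {X : Dual.FinLen A} {f g : Q n ⟶ X}
    (h : f.hom.hom (one n) = g.hom.hom (one n)) : f = g := by
  refine ObjectProperty.hom_ext _ (ModuleCat.hom_ext (Submodule.linearMap_qext _ (LinearMap.ext_ring ?_)))
  exact h

/-- The transition map `A/m^(m+1) → A/m^(n+1)`. -/
def π {n m : ℕ} (h : n ≤ m) : Q (A := A) m ⟶ Q n := mapOf m (one n) (killed_mono h (killed_one n))

theorem comp_apply' {X Y Z : Dual.FinLen A} (f : X ⟶ Y) (g : Y ⟶ Z) (x : X.obj) :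
    (f ≫ g).hom.hom x = g.hom.hom (f.hom.hom x) := rfl

theorem π_one {n m : ℕ} (h : n ≤ m) : (π (A := A) h).hom.hom (one m) = one n :=
  mapOf_one _ _ _

variable (F : Dual.FinLen A ≌ Dual.FinLen A) [F.functor.Additive] [F.functor.Linear A]

theorem exists_map_eq {X Y : Dual.FinLen A} (f : F.functor.obj X ⟶ F.functor.obj Y) :
    ∃ g : X ⟶ Y, F.functor.map g = f :=
  ⟨F.fullyFaithfulFunctor.preimage f, F.fullyFaithfulFunctor.map_preimage f⟩

theorem killed_map {n : ℕ} {X : Dual.FinLen A} (hX : ∀ x : X.obj, Killed n x)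
    (y : (F.functor.obj X).obj) : Killed n y := fun r hr => by
  have h0 : r • 𝟙 X = 0 := ObjectProperty.hom_ext _ (ModuleCat.hom_ext (LinearMap.ext fun x => hX x r hr))
  have := congrArg (fun f => f.hom.hom y) (congrArg F.functor.map h0)
  simp only [Functor.map_smul, F.functor.map_id, F.functor.map_zero] at this
  exact this

theorem killed_Q (n : ℕ) (x : (Q (A := A) n).obj) : Killed n x := fun r hr => by
  obtain ⟨a, rfl⟩ := Ideal.Quotient.mk_surjective x
  show r • (Ideal.Quotient.mk (maximalIdeal A ^ (n + 1)) a) = 0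
  rw [Algebra.smul_def, Ideal.Quotient.algebraMap_eq, ← map_mul, Ideal.Quotient.eq_zero_iff_mem]
  exact Ideal.mul_mem_right _ _ hr

theorem mem_of_smul_one_eq_zero {n : ℕ} {r : A} (h : r • one (A := A) n = 0) :
    r ∈ maximalIdeal A ^ (n + 1) := by
  have h' : r • (Ideal.Quotient.mk (maximalIdeal A ^ (n + 1)) (1 : A)) = 0 := h
  rw [Algebra.smul_def, Ideal.Quotient.algebraMap_eq, ← map_mul, mul_one, Ideal.Quotient.eq_zero_iff_mem] at h'
  exact h'

theorem exists_smul_one (n : ℕ) (x : (Q (A := A) n).obj) : ∃ a : A, x = a • one n := by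
  obtain ⟨a, rfl⟩ := Ideal.Quotient.mk_surjective x
  refine ⟨a, ?_⟩
  show Ideal.Quotient.mk (maximalIdeal A ^ (n + 1)) a = a • (Ideal.Quotient.mk (maximalIdeal A ^ (n + 1)) (1 : A))
  rw [Algebra.smul_def, Ideal.Quotient.algebraMap_eq, ← map_mul, mul_one]

/-- Every map to the image of the residue field is a multiple of the image of the projection. -/
theorem exists_smul_eq {n : ℕ} (ψ : F.functor.obj (Q (A := A) n) ⟶ F.functor.obj (Q 0)) :
    ∃ c : A, ψ = c • F.functor.map (π (Nat.zero_le n)) := by
  obtain ⟨g, rfl⟩ := exists_map_eq F ψ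
  obtain ⟨c, hc⟩ := exists_smul_one 0 (g.hom.hom (one n))
  refine ⟨c, ?_⟩
  rw [← F.functor.map_smul]
  refine congrArg F.functor.map (hom_ext_one ?_)
  rw [hc]
  show c • one (A := A) 0 = c • (mapOf n (one (A := A) 0) (killed_mono (Nat.zero_le n) (killed_one 0))).hom.hom (one n)
  rw [mapOf_one]

theorem exists_ne_zero : ∃ v : (F.functor.obj (Q (A := A) 0)).obj, v ≠ 0 := by
  by_contra h
  push Not at h
  have h1 : F.functor.map (𝟙 (Q (A := A) 0)) = F.functor.map 0 :=
    ObjectProperty.hom_ext _ (ModuleCat.hom_ext (LinearMap.ext fun x => (h _).trans (h _).symm))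
  have h2 := congrArg (fun f => f.hom.hom (one 0)) (F.functor.map_injective h1)
  have h3 : one (A := A) 0 = 0 := h2
  have := mem_of_smul_one_eq_zero (n := 0) (r := (1 : A)) (by rw [h3, smul_zero])
  rw [pow_one] at this
  exact (maximalIdeal.isMaximal A).ne_top ((Ideal.eq_top_iff_one _).2 this)

theorem killed_V (v : (F.functor.obj (Q (A := A) 0)).obj) (r : A) (hr : r ∈ maximalIdeal A) : r • v = 0 :=
  killed_map F (killed_Q 0) v r (by rw [pow_one]; exact hr)

/-- An element with nonzero image in the image of the residue field generates. -/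
theorem span_eq_top {n : ℕ} (e : (F.functor.obj (Q (A := A) n)).obj)
    (he : (F.functor.map (π (Nat.zero_le n))).hom.hom e ≠ 0) : Submodule.span A {e} = ⊤ := by
  classical
  haveI : Module.Finite A (F.functor.obj (Q (A := A) n)).obj :=
    haveI := (isFiniteLength_iff_isNoetherian_isArtinian.1 (F.functor.obj (Q (A := A) n)).property).1
    inferInstance
  set N : Submodule A (F.functor.obj (Q (A := A) n)).obj := Submodule.span A {e} ⊔ maximalIdeal A • ⊤
  have hN : N = ⊤ := by
    by_contra hne
    haveI : Nontrivial ((F.functor.obj (Q (A := A) n)).obj ⧸ N) := Submodule.Quotient.nontrivial_iff.2 hne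
    obtain ⟨v, hv⟩ := exists_ne_zero F
    have htors : Module.IsTorsionBySet A ((F.functor.obj (Q (A := A) n)).obj ⧸ N) (maximalIdeal A : Set A) := by
      intro z r
      obtain ⟨x, rfl⟩ := Submodule.Quotient.mk_surjective N z
      rw [← Submodule.Quotient.mk_smul, Submodule.Quotient.mk_eq_zero]
      exact Submodule.mem_sup_right (Submodule.smul_mem_smul r.2 Submodule.mem_top)
    letI := htors.module
    letI : Field (A ⧸ maximalIdeal A) := Ideal.Quotient.field _
    haveI : IsScalarTower A (A ⧸ maximalIdeal A) ((F.functor.obj (Q (A := A) n)).obj ⧸ N) := htors.isScalarTower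
    obtain ⟨z, hz⟩ := exists_ne (0 : (F.functor.obj (Q (A := A) n)).obj ⧸ N)
    obtain ⟨φ, hφ⟩ : ∃ φ : Module.Dual (A ⧸ maximalIdeal A) ((F.functor.obj (Q (A := A) n)).obj ⧸ N), φ z ≠ 0 := by
      by_contra h
      push Not at h
      exact hz ((Module.forall_dual_apply_eq_zero_iff (A ⧸ maximalIdeal A) z).1 h)
    let s : (A ⧸ maximalIdeal A) →ₗ[A] (F.functor.obj (Q (A := A) 0)).obj :=
      Submodule.liftQ (maximalIdeal A) (LinearMap.toSpanSingleton A _ v)
        (fun r hr => by rw [LinearMap.mem_ker, LinearMap.toSpanSingleton_apply]; exact killed_V F v r hr)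
    let ψ : F.functor.obj (Q (A := A) n) ⟶ F.functor.obj (Q 0) :=
      ObjectProperty.homMk (ModuleCat.ofHom (s.comp ((φ.restrictScalars A).comp N.mkQ)))
    obtain ⟨c, hc⟩ := exists_smul_eq F ψ
    have hψe : ψ.hom.hom e = 0 := by
      show s (φ (N.mkQ e)) = 0
      rw [show N.mkQ e = 0 from (Submodule.Quotient.mk_eq_zero N).2
        (Submodule.mem_sup_left (Submodule.mem_span_singleton_self e)), map_zero, map_zero]
    rw [hc] at hψe
    have hcm : c ∈ maximalIdeal A := by
      by_contra hcu
      exact he ((IsUnit.smul_eq_zero (notMem_maximalIdeal.1 hcu)).1 (show c • _ = 0 from hψe))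
    obtain ⟨x, rfl⟩ := Submodule.Quotient.mk_surjective N z
    have hψ0 : ψ.hom.hom x = 0 := by
      rw [hc]; exact killed_V F _ c hcm
    obtain ⟨a, ha⟩ := Ideal.Quotient.mk_surjective (φ (Submodule.Quotient.mk x))
    have hs : a • v = 0 := by
      have h' : s (φ (Submodule.Quotient.mk x)) = 0 := hψ0
      rw [← ha] at h'
      exact h'
    have ham : a ∈ maximalIdeal A := by
      by_contra hau
      exact hv ((IsUnit.smul_eq_zero (notMem_maximalIdeal.1 hau)).1 hs)
    exact hφ (by rw [← ha, Ideal.Quotient.eq_zero_iff_mem.2 ham])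
  refine top_le_iff.1 (Submodule.le_of_le_smul_of_le_jacobson_bot Module.Finite.fg_top
    (IsLocalRing.maximalIdeal_le_jacobson _) ?_)
  exact hN.ge

theorem π_comp {l n m : ℕ} (h₁ : l ≤ n) (h₂ : n ≤ m) :
    π (A := A) h₂ ≫ π h₁ = π (h₁.trans h₂) :=
  hom_ext_one (by rw [comp_apply', π_one, π_one, π_one])

theorem exists_good (n : ℕ) :
    ∃ e : (F.functor.obj (Q (A := A) n)).obj, (F.functor.map (π (Nat.zero_le n))).hom.hom e ≠ 0 := by
  by_contra h
  push Not at h
  have h0 : F.functor.map (π (Nat.zero_le n)) = F.functor.map 0 := by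
    rw [F.functor.map_zero]
    exact ObjectProperty.hom_ext _ (ModuleCat.hom_ext (LinearMap.ext h))
  have h1 := congrArg (fun f => f.hom.hom (one n)) (F.functor.map_injective h0)
  rw [show (π (Nat.zero_le n)).hom.hom (one n) = one 0 from mapOf_one _ _ _] at h1
  have h1' : one (A := A) 0 = 0 := h1
  have := mem_of_smul_one_eq_zero (n := 0) (r := (1 : A)) (by rw [h1', smul_zero])
  rw [pow_one] at this
  exact (maximalIdeal.isMaximal A).ne_top ((Ideal.eq_top_iff_one _).2 this)

/-- Generators lift along the projections. -/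
theorem exists_lift (n : ℕ) (e : (F.functor.obj (Q (A := A) n)).obj) :
    ∃ e', (F.functor.map (π (Nat.le_succ n))).hom.hom e' = e := by
  obtain ⟨e₀, he₀⟩ := exists_good F (n + 1)
  have hg : (F.functor.map (π (Nat.zero_le n))).hom.hom ((F.functor.map (π (Nat.le_succ n))).hom.hom e₀) ≠ 0 := by
    rwa [← π_comp (Nat.zero_le n) (Nat.le_succ n), F.functor.map_comp, comp_apply'] at he₀
  have hspan := span_eq_top F _ hg
  obtain ⟨a, ha⟩ := Submodule.mem_span_singleton.1
    (show e ∈ Submodule.span A {(F.functor.map (π (Nat.le_succ n))).hom.hom e₀} from hspan ▸ Submodule.mem_top)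
  exact ⟨a • e₀, by rw [map_smul, ha]⟩

/-- A compatible system of generators. -/
def gen : ∀ n, (F.functor.obj (Q (A := A) n)).obj
  | 0 => (exists_good F 0).choose
  | n + 1 => (exists_lift F n (gen n)).choose

theorem gen_compat {n m : ℕ} (h : n ≤ m) :
    (F.functor.map (π h)).hom.hom (gen F m) = gen F n := by
  induction h with
  | refl =>
    rw [show π (le_refl n) = 𝟙 (Q (A := A) n) from hom_ext_one (mapOf_one _ _ _), F.functor.map_id]
    rfl
  | @step m h ih =>
    change (F.functor.map (π (Nat.le_trans h (Nat.le_succ m)))).hom.hom (gen F (m + 1)) = _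
    rw [← π_comp h (Nat.le_succ m), F.functor.map_comp, comp_apply']
    change (F.functor.map (π h)).hom.hom ((F.functor.map (π (Nat.le_succ m))).hom.hom
      (exists_lift F m (gen F m)).choose) = _
    rw [(exists_lift F m (gen F m)).choose_spec, ih]

theorem span_gen (n : ℕ) : Submodule.span A {gen F n} = ⊤ := by
  refine span_eq_top F _ ?_
  rw [gen_compat F (Nat.zero_le n)]
  exact (fun h => (exists_good F 0).choose_spec (by rw [show (exists_good F 0).choose = gen F 0 from rfl, h, map_zero]))

/-- The comparison map on elements. -/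
def ηfun (X : Dual.FinLen A) (x : X.obj) : (F.functor.obj X).obj :=
  (F.functor.map (mapOf _ x ((exists_killed X).choose_spec x))).hom.hom (gen F _)

theorem ηfun_eq {X : Dual.FinLen A} (x : X.obj) (n : ℕ) (hx : Killed n x) :
    ηfun F X x = (F.functor.map (mapOf n x hx)).hom.hom (gen F n) := by
  set m := (exists_killed X).choose
  have key : ∀ (p : ℕ) (hp : Killed p x) (l : ℕ) (h : p ≤ l),
      (F.functor.map (mapOf p x hp)).hom.hom (gen F p) =
        (F.functor.map (mapOf l x (killed_mono h hp))).hom.hom (gen F l) := by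
    intro p hp l h
    have : mapOf l x (killed_mono h hp) = π h ≫ mapOf p x hp :=
      hom_ext_one (by rw [comp_apply', π_one, mapOf_one, mapOf_one])
    rw [this, F.functor.map_comp, comp_apply', gen_compat]
  rw [ηfun, key m ((exists_killed X).choose_spec x) (max m n) (le_max_left _ _),
    key n hx (max m n) (le_max_right _ _)]

/-- The comparison map. -/
def η (X : Dual.FinLen A) : X.obj →ₗ[A] (F.functor.obj X).obj where
  toFun := ηfun F X
  map_add' x y := by
    obtain ⟨n, hn⟩ := exists_killed X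
    rw [ηfun_eq F (x + y) n (hn _), ηfun_eq F x n (hn _), ηfun_eq F y n (hn _),
      show mapOf n (x + y) (hn _) = mapOf n x (hn _) + mapOf n y (hn _) from hom_ext_one (by
        show _ = (mapOf n x (hn _)).hom.hom (one n) + (mapOf n y (hn _)).hom.hom (one n)
        rw [mapOf_one, mapOf_one, mapOf_one]), F.functor.map_add]
    rfl
  map_smul' a x := by
    obtain ⟨n, hn⟩ := exists_killed X
    rw [RingHom.id_apply, ηfun_eq F (a • x) n (hn _), ηfun_eq F x n (hn _),
      show mapOf n (a • x) (hn _) = a • mapOf n x (hn _) from hom_ext_one (by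
        show _ = a • (mapOf n x (hn _)).hom.hom (one n)
        rw [mapOf_one, mapOf_one]), F.functor.map_smul]
    rfl

theorem η_natural {X Y : Dual.FinLen A} (f : X ⟶ Y) (x : X.obj) :
    (F.functor.map f).hom.hom (η F X x) = η F Y (f.hom.hom x) := by
  obtain ⟨n, hn⟩ := exists_killed X
  have hk : Killed n (f.hom.hom x) := fun r hr => by rw [← map_smul, hn x r hr, map_zero]
  show (F.functor.map f).hom.hom (ηfun F X x) = ηfun F Y (f.hom.hom x)
  rw [ηfun_eq F x n (hn x), ηfun_eq F _ n hk,
    show mapOf n (f.hom.hom x) hk = mapOf n x (hn x) ≫ f from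
      hom_ext_one (by rw [comp_apply', mapOf_one, mapOf_one]), F.functor.map_comp, comp_apply']

theorem η_injective (X : Dual.FinLen A) : Function.Injective (η F X) := by
  rw [injective_iff_map_eq_zero]
  intro x hx
  obtain ⟨n, hn⟩ := exists_killed X
  have hx' : ηfun F X x = 0 := hx
  rw [ηfun_eq F x n (hn x)] at hx'
  have h0 : F.functor.map (mapOf n x (hn x)) = F.functor.map 0 := by
    rw [F.functor.map_zero]
    refine ObjectProperty.hom_ext _ (ModuleCat.hom_ext (LinearMap.ext fun y => ?_))
    obtain ⟨a, rfl⟩ := Submodule.mem_span_singleton.1 (show y ∈ Submodule.span A {gen F n} from span_gen F n ▸ Submodule.mem_top)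
    rw [map_smul, map_smul, hx', smul_zero]
    exact (smul_zero a).symm
  have := congrArg (fun f => f.hom.hom (one n)) (F.functor.map_injective h0)
  rw [mapOf_one] at this
  exact this

theorem η_surjective (X : Dual.FinLen A) : Function.Surjective (η F X) := by
  rw [← LinearMap.range_eq_top]
  by_contra hne
  set R := LinearMap.range (η F X)
  let Z : Dual.FinLen A := ⟨ModuleCat.of A ((F.functor.obj X).obj ⧸ R), by
    obtain ⟨hN, hA⟩ := isFiniteLength_iff_isNoetherian_isArtinian.1 (F.functor.obj X).property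
    exact isFiniteLength_iff_isNoetherian_isArtinian.2 ⟨inferInstance, inferInstance⟩⟩
  let q : F.functor.obj X ⟶ Z := ObjectProperty.homMk (ModuleCat.ofHom R.mkQ)
  obtain ⟨g, hg⟩ := exists_map_eq F (q ≫ (F.counitIso.app Z).inv)
  have hg0 : g = 0 := by
    refine ObjectProperty.hom_ext _ (ModuleCat.hom_ext (LinearMap.ext fun x => ?_))
    refine η_injective F (F.inverse.obj Z) ?_
    rw [← η_natural, hg]
    show (F.counitIso.app Z).inv.hom.hom (R.mkQ (η F X x)) = η F (F.inverse.obj Z) 0
    rw [show R.mkQ (η F X x) = 0 from (Submodule.Quotient.mk_eq_zero R).2 ⟨x, rfl⟩, map_zero]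
    exact (map_zero (η F (F.inverse.obj Z))).symm
  have hq : q = 0 := by
    rw [← cancel_mono (F.counitIso.app Z).inv, ← hg, hg0, F.functor.map_zero, Limits.zero_comp]
  refine hne (top_le_iff.1 fun y _ => ?_)
  exact (Submodule.Quotient.mk_eq_zero R).1 (congrArg (fun f => f.hom.hom y) hq)

theorem nonempty_iso : Nonempty (F.functor ≅ 𝟭 (Dual.FinLen A)) :=
  ⟨(NatIso.ofComponents (fun X => ObjectProperty.isoMk _
      (LinearEquiv.ofBijective (η F X) ⟨η_injective F X, η_surjective F X⟩).toModuleIso)
    (fun {X Y} f => ObjectProperty.hom_ext _ (ModuleCat.hom_ext (LinearMap.ext fun x => (η_natural F f x).symm)))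
    : 𝟭 (Dual.FinLen A) ≅ F.functor).symm⟩

end Groth.Agent.FinLenEquivLib
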